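import Cfsg.Agent.Lib.CosetEnum.Chain
import Cfsg.Agent.Lib.CosetEnum.Suz1782.Enum

/-! An upper bound on a subgroup generated by letters: 2 cosets. -/
-- BOUND 2

set_option autoImplicit false
set_option maxRecDepth 20000
set_option Elab.async false

namespace Cfsg.Agent.Lib.CosetEnum.SuzChain.L1

open Cfsg.Agent.Lib.CosetEnum

/-- Coset table. -/
noncomputable def table : PTree :=
  .leaf 0x1

/-- Vertices of the final cosets. -/
noncomputable def vert : PTree :=
  .leaf 0x100000000

/-- Facts of the table edges. -/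
noncomputable def edge : PTree :=
  .leaf 0x100000000

/-- All facts. -/
noncomputable def facts : PTree :=
  .leaf 0x100000000

/-- Packed words. -/
noncomputable def words : PTree :=
  .node 1
  (.leaf 0x1)
  (.leaf 0x400)

/-- The certificate data. -/
noncomputable def data : Data :=
  ⟨1, 0x20, facts, words, 2, 2⟩

theorem defs_ok : defsOK data 1 = true := by decide +kernel

theorem good (G : Type) (_ : Group G) (φ : ℕ → G) (H : Subgroup G) (hV : Valid data φ H) :
    ∀ i < 1, Good data 1 φ H i :=
  (fun i hi => good_defs defs_ok hi)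

theorem edges_part0 : allFrom 0 2 (edgeAt data 1 2 table vert edge) = true := by decide +kernel

theorem edges_ok : edgesOK data 1 2 table vert edge = true :=
  (allBelow_add (rfl : allBelow 0 (edgeAt data 1 2 table vert edge) = true) edges_part0
    (by omega : 0 + 2 = 2))

/-- The order bound. -/
theorem bound :
    Nat.card (subOf Cfsg.Agent.Lib.CosetEnum.Suz1782.letters Cfsg.Agent.Lib.CosetEnum.Suz1782.pres ([2].map fun g => [g])) ≠ 0 ∧
    Nat.card (subOf Cfsg.Agent.Lib.CosetEnum.Suz1782.letters Cfsg.Agent.Lib.CosetEnum.Suz1782.pres ([2].map fun g => [g])) ≤ 2 :=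
  card_le_of_enum Cfsg.Agent.Lib.CosetEnum.Suz1782.letters Cfsg.Agent.Lib.CosetEnum.Suz1782.pres Cfsg.Agent.Lib.CosetEnum.Suz1782.rels_mem Cfsg.Agent.Lib.CosetEnum.Suz1782.letters_ok Cfsg.Agent.Lib.CosetEnum.Suz1782.table_ok.col [2]
    data 1 1 2 table vert edge (by omega) rfl (by decide +kernel) (by decide +kernel)
    (by decide +kernel) [[],
    [0, 0]] []
    (by decide +kernel) (by decide +kernel) rfl rfl (by decide +kernel)
    (fun φ H hV => good _ _ φ H hV) (by decide +kernel) edges_ok 1 (card_subOf_nil _ _)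

end Cfsg.Agent.Lib.CosetEnum.SuzChain.L1
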