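import Cfsg.Agent.Lib.CosetEnum.Chain
import Cfsg.Agent.Lib.CosetEnum.Suz1782.Enum
import Cfsg.Agent.Lib.CosetEnum.SuzChain.L1

/-! An upper bound on a subgroup generated by letters: 8 cosets. -/
-- BOUND 16

set_option autoImplicit false
set_option maxRecDepth 20000
set_option Elab.async false

namespace Cfsg.Agent.Lib.CosetEnum.SuzChain.L2

open Cfsg.Agent.Lib.CosetEnum

/-- Coset table. -/
noncomputable def table : PTree :=
  .leaf 0x6000000070000000700000005000000040000000600000005000000030000000200000004000000030000000100000000000000020000000100000000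

/-- Vertices of the final cosets. -/
noncomputable def vert : PTree :=
  .leaf 0x700000006000000050000000400000003000000020000000100000000

/-- Facts of the table edges. -/
noncomputable def edge : PTree :=
  .leaf 0xd000000100000000c0000000b000000090000000a0000000800000007000000050000000600000004000000030000000100000002000000000000000e

/-- All facts. -/
noncomputable def facts : PTree :=
  .leaf 0x700000007000000000000000000000000000000010000000700000006000000000000000600000005000000010000000500000004000000000000000400000003000000010000000300000002000000000000000200000001000000010000000100000000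

/-- Packed words. -/
noncomputable def words : PTree :=
  .node 2
  (.node 1
  (.leaf 0x1)
  (.leaf 0x100401004010040100401))
  (.node 3
  (.leaf 0x400)
  (.node 4
  (.leaf 0x421)
  (.leaf 0x20)))

/-- The certificate data. -/
noncomputable def data : Data :=
  ⟨2, 0x820, facts, words, 4, 5⟩

/-- Steps, part 0. -/
noncomputable def part0 : List (ℕ × ℕ) :=
  [(2, 0x8000000060000000400000002000000000000000f00000001000000030000000500000007000000090000000b0000000d0000000c0000000a0000000d00000002000000010000000500000000000000000000000400000000)]

theorem part0_ok : chunks data part0 7 = true ∧ 9 = 7 + chunksLen part0 :=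
  ⟨by decide +kernel, by decide +kernel⟩

theorem defs_ok : defsOK data 7 = true := by decide +kernel

theorem good (G : Type) (_ : Group G) (φ : ℕ → G) (H : Subgroup G) (hV : Valid data φ H) :
    ∀ i < 9, Good data 7 φ H i :=
  (chunks_sound hV part0 part0_ok.1 part0_ok.2
      (fun i hi => good_defs defs_ok hi))

theorem edges_part0 : allFrom 0 8 (edgeAt data 9 8 table vert edge) = true := by decide +kernel

theorem edges_ok : edgesOK data 9 8 table vert edge = true :=
  (allBelow_add (rfl : allBelow 0 (edgeAt data 9 8 table vert edge) = true) edges_part0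
    (by omega : 0 + 8 = 8))

/-- The order bound. -/
theorem bound :
    Nat.card (subOf Cfsg.Agent.Lib.CosetEnum.Suz1782.letters Cfsg.Agent.Lib.CosetEnum.Suz1782.pres ([2, 3].map fun g => [g])) ≠ 0 ∧
    Nat.card (subOf Cfsg.Agent.Lib.CosetEnum.Suz1782.letters Cfsg.Agent.Lib.CosetEnum.Suz1782.pres ([2, 3].map fun g => [g])) ≤ 16 :=
  card_le_of_enum Cfsg.Agent.Lib.CosetEnum.Suz1782.letters Cfsg.Agent.Lib.CosetEnum.Suz1782.pres Cfsg.Agent.Lib.CosetEnum.Suz1782.rels_mem Cfsg.Agent.Lib.CosetEnum.Suz1782.letters_ok Cfsg.Agent.Lib.CosetEnum.Suz1782.table_ok.col [2, 3]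
    data 7 9 8 table vert edge (by omega) rfl (by decide +kernel) (by decide +kernel)
    (by decide +kernel) [[],
    [0, 1, 0, 1, 0, 1, 0, 1, 0, 1, 0, 1, 0, 1, 0, 1],
    [0, 0],
    [1, 1]] [[0]]
    (by decide +kernel) (by decide +kernel) rfl rfl (by decide +kernel)
    (fun φ H hV => good _ _ φ H hV) (by decide +kernel) edges_ok 2 Cfsg.Agent.Lib.CosetEnum.SuzChain.L1.bound

end Cfsg.Agent.Lib.CosetEnum.SuzChain.L2
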